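import Cfsg.Agent.Fi23Two.Setup.Action
import Cfsg.Prelude.Def_Classical

/-!
# The kernel on `J` modulo the centre is `J`; an element inverts `c`
-/

set_option autoImplicit false
set_option linter.unusedSectionVars false

open Cfsg Subgroup
open scoped commutatorElement

namespace Cfsg.Agent.Fi23Two.Setup

variable {H : Type*} [Group H] [Finite H]
variable {J : Subgroup H} [J.Normal] {zc c a b : H}

theorem Frame.distinct (F : Frame J zc c a b) : a ≠ b ∧ a ≠ a * b ∧ b ≠ a * b :=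
  ⟨F.ab_ne.1.symm, fun e => (F.mem b (Or.inr (Or.inl rfl))).2.2.2.1 (mul_eq_left.1 e.symm),
    fun e => (F.mem a (Or.inl rfl)).2.2.2.1 (mul_eq_right.1 e.symm)⟩

theorem Frame.ne_conj (F : Frame J zc c a b) {g u v : H} (h : g * u * g⁻¹ = v) {w : H}
    (hne : u ≠ w) : g * w * g⁻¹ ≠ v := fun e =>
  hne (mul_left_cancel (mul_right_cancel (h.trans e.symm)))

/-- Reaching the stabiliser of `a` without leaving the coset of `J⟨c⟩`. -/
theorem Frame.to_stab (F : Frame J zc c a b) (A : Amb J c) [hT : (J ⊔ zpowers c).Normal] (h : H) :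
    ∃ y ∈ zpowers c, y * h * a * (y * h)⁻¹ = a := by
  rcases F.perm A h (Or.inl rfl) with e | e | e
  · exact ⟨1, one_mem _, by rw [one_mul]; exact e⟩
  · refine ⟨c * c, mul_mem (mem_zpowers c) (mem_zpowers c), ?_⟩
    rw [show c * c * h * a * (c * c * h)⁻¹ = c * (c * (h * a * h⁻¹) * c⁻¹) * c⁻¹ by group, e, F.cb,
      F.cab]
  · refine ⟨c, mem_zpowers c, ?_⟩
    rw [show c * h * a * (c * h)⁻¹ = c * (h * a * h⁻¹) * c⁻¹ by group, e, F.cab]

/-- The element fixing `a` either fixes or swaps the other two. -/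
theorem Frame.swap_cases (F : Frame J zc c a b) (A : Amb J c) [(J ⊔ zpowers c).Normal] {x : H}
    (hxa : x * a * x⁻¹ = a) : (x * b * x⁻¹ = b ∧ x * (a * b) * x⁻¹ = a * b) ∨
      (x * b * x⁻¹ = a * b ∧ x * (a * b) * x⁻¹ = b) := by
  have e2 : x * (a * b) * x⁻¹ = x * a * x⁻¹ * (x * b * x⁻¹) := by group
  rw [hxa] at e2
  rcases F.perm A x (Or.inr (Or.inl rfl)) with e1 | e1 | e1
  · exact absurd e1 (F.ne_conj hxa F.distinct.1)
  · exact Or.inl ⟨e1, by rw [e2, e1]⟩
  · exact Or.inr ⟨e1, by rw [e2, e1, ← mul_assoc, F.sqW.1, one_mul]⟩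

/-- The type of an element of the kernel outside `J`. -/
def Rot (c g a : H) : Prop := g * a * g⁻¹ = c * a * c⁻¹

/-- An element of the kernel fixing `a` lies in `J`. -/
theorem Frame.kernel_fix (F : Frame J zc c a b) (A : Amb J c) [(J ⊔ zpowers c).Normal]
    (e : (H ⧸ (J ⊔ zpowers c)) ≃* MulAut (Cfsg.PSp 2 (ZMod 3)))
    (hcen : ∀ f : MulAut (Cfsg.PSp 2 (ZMod 3)),
      (∀ p, MulAut.conj p * f = f * MulAut.conj p) → f = 1)
    {g : H} (hg : g ∈ actKer J) (hga : g * a * g⁻¹ = a) : g ∈ J := by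
  have hk : ∀ x, x * a * x⁻¹ = a → x * g * x⁻¹ * g⁻¹ ∈ J := by
    intro x hxa
    have hinv : ∀ y u w : H, y * u * y⁻¹ = w → y⁻¹ * w * y⁻¹⁻¹ = u :=
      fun y u w e1 => by rw [← e1]; group
    have hkk : ∀ u, x * g * x⁻¹ * g⁻¹ * u * (x * g * x⁻¹ * g⁻¹)⁻¹ =
        x * (g * (x⁻¹ * (g⁻¹ * u * g⁻¹⁻¹) * x⁻¹⁻¹) * g⁻¹) * x⁻¹ := fun u => by group
    refine F.kernel_le A (mul_mem (actKer_normal.conj_mem g hg x) (inv_mem hg)) ?_ ?_
    · rw [hkk, hinv g a a hga, hinv x a a hxa, hga, hxa]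
    · rcases F.swap_cases A hga with ⟨g1, g2⟩ | ⟨g1, g2⟩ <;>
        rcases F.swap_cases A hxa with ⟨x1, x2⟩ | ⟨x1, x2⟩
      · rw [hkk, hinv g b b g1, hinv x b b x1, g1, x1]
      · rw [hkk, hinv g b b g1, hinv x _ b x2, g2, x2]
      · rw [hkk, hinv g _ b g2, hinv x _ (a * b) x2, g2, x1]
      · rw [hkk, hinv g _ b g2, hinv x _ (a * b) x1, g1, x2]
  have hone : e (QuotientGroup.mk g) = 1 := by
    refine hcen _ fun p => ?_
    obtain ⟨h, hh⟩ := QuotientGroup.mk_surjective (e.symm (MulAut.conj p))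
    obtain ⟨y, hy, hya⟩ := F.to_stab A h
    have h1 : (QuotientGroup.mk (y * h * g * (y * h)⁻¹ * g⁻¹) : H ⧸ (J ⊔ zpowers c)) = 1 :=
      (QuotientGroup.eq_one_iff _).2 (mem_sup_left (hk _ hya))
    have h2 : (QuotientGroup.mk y : H ⧸ (J ⊔ zpowers c)) = 1 :=
      (QuotientGroup.eq_one_iff _).2 (mem_sup_right hy)
    simp only [QuotientGroup.mk_mul, QuotientGroup.mk_inv, h2, one_mul, hh, mul_inv_eq_one,
      mul_inv_eq_iff_eq_mul] at h1
    have h3 := congrArg e h1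
    rwa [map_mul, map_mul, MulEquiv.apply_symm_apply] at h3
  rw [map_eq_one_iff e e.injective, QuotientGroup.eq_one_iff] at hone
  obtain ⟨j, hj, e1 | e1 | e1⟩ := A.cases g hone
  · exact e1 ▸ hj
  · refine absurd ?_ F.distinct.1
    rw [← F.ca, ← (F.act_c hj (Or.inl rfl)).1, ← e1, hga]
  · refine absurd ?_ F.distinct.2.1
    rw [← F.cb, ← F.ca, ← (F.act_c hj (Or.inl rfl)).2, ← e1, hga]

/-- What moves an element of the kernel outside `J`. -/
theorem Frame.kernel_moves (F : Frame J zc c a b) (A : Amb J c) [(J ⊔ zpowers c).Normal]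
    (e : (H ⧸ (J ⊔ zpowers c)) ≃* MulAut (Cfsg.PSp 2 (ZMod 3)))
    (hcen : ∀ f : MulAut (Cfsg.PSp 2 (ZMod 3)),
      (∀ p, MulAut.conj p * f = f * MulAut.conj p) → f = 1)
    {g : H} (hg : g ∈ actKer J) (hgJ : g ∉ J) :
    (g * a * g⁻¹ = b ∧ g * b * g⁻¹ = a * b ∧ g * (a * b) * g⁻¹ = a) ∨
      (g * a * g⁻¹ = a * b ∧ g * b * g⁻¹ = a ∧ g * (a * b) * g⁻¹ = b) := by
  have hnfix : ∀ w, W3 a b w → g * w * g⁻¹ ≠ w := by
    rintro w (rfl | rfl | rfl) hw
    · exact hgJ (F.kernel_fix A e hcen hg hw)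
    · refine hgJ ?_
      have h1 := F.kernel_fix A e hcen (actKer_normal.conj_mem g hg c⁻¹) (by
        rw [inv_inv, show c⁻¹ * g * c * a * (c⁻¹ * g * c)⁻¹ = c⁻¹ * (g * (c * a * c⁻¹) * g⁻¹) * c by
          group, F.ca, hw, ← F.ca]
        group)
      have h2 := (inferInstance : J.Normal).conj_mem _ h1 c
      rwa [inv_inv, show c * (c⁻¹ * g * c) * c⁻¹ = g by group] at h2
    · refine hgJ ?_
      have h1 := F.kernel_fix A e hcen (actKer_normal.conj_mem g hg c) (by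
        rw [show c * g * c⁻¹ * a * (c * g * c⁻¹)⁻¹ = c * (g * (c⁻¹ * a * c) * g⁻¹) * c⁻¹ by group,
          show c⁻¹ * a * c = a * b by nth_rewrite 1 [← F.cab]; group, hw, F.cab])
      have h2 := (inferInstance : J.Normal).conj_mem _ h1 c⁻¹
      rwa [inv_inv, show c⁻¹ * (c * g * c⁻¹) * c = g by group] at h2
  obtain ⟨d1, d2, d3⟩ := F.distinct
  rcases F.perm A g (Or.inl rfl) with e1 | e1 | e1
  · exact absurd e1 (hnfix a (Or.inl rfl))
  · left
    have e2 : g * b * g⁻¹ = a * b := by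
      rcases F.perm A g (Or.inr (Or.inl rfl)) with e2 | e2 | e2
      · refine absurd ?_ (hnfix (a * b) (Or.inr (Or.inr rfl)))
        rw [show g * (a * b) * g⁻¹ = g * a * g⁻¹ * (g * b * g⁻¹) by group, e1, e2, F.ab.eq]
      · exact absurd e2 (hnfix b (Or.inr (Or.inl rfl)))
      · exact e2
    refine ⟨e1, e2, ?_⟩
    rw [show g * (a * b) * g⁻¹ = g * a * g⁻¹ * (g * b * g⁻¹) by group, e1, e2, F.ab.eq, ← mul_assoc,
      F.sqW.2, one_mul]
  · right
    have e2 : g * b * g⁻¹ = a := by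
      rcases F.perm A g (Or.inr (Or.inl rfl)) with e2 | e2 | e2
      · exact e2
      · exact absurd e2 (hnfix b (Or.inr (Or.inl rfl)))
      · exact absurd e2 (F.ne_conj e1 d1)
    refine ⟨e1, e2, ?_⟩
    rw [show g * (a * b) * g⁻¹ = g * a * g⁻¹ * (g * b * g⁻¹) by group, e1, e2, ← F.ab.symm.eq,
      mul_assoc, F.sqW.1, mul_one]

/-- The kernel is `J`. -/
theorem Frame.kernel_eq (F : Frame J zc c a b) (A : Amb J c) [(J ⊔ zpowers c).Normal]
    (e : (H ⧸ (J ⊔ zpowers c)) ≃* MulAut (Cfsg.PSp 2 (ZMod 3)))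
    (hcen : ∀ f : MulAut (Cfsg.PSp 2 (ZMod 3)),
      (∀ p, MulAut.conj p * f = f * MulAut.conj p) → f = 1)
    (hinn : ∀ p : Cfsg.PSp 2 (ZMod 3), MulAut.conj p ∈ commutator (MulAut (Cfsg.PSp 2 (ZMod 3))))
    {g : H} (hg : g ∈ actKer J) : g ∈ J := by
  by_contra hgJ
  have hpm : ∀ x : MulAut (Cfsg.PSp 2 (ZMod 3)), x * e (QuotientGroup.mk g) * x⁻¹ =
      e (QuotientGroup.mk g) ∨ x * e (QuotientGroup.mk g) * x⁻¹ = (e (QuotientGroup.mk g))⁻¹ := by
    intro x
    obtain ⟨h, hh⟩ := QuotientGroup.mk_surjective (e.symm x)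
    have hh' : e (QuotientGroup.mk h) = x := by rw [hh, MulEquiv.apply_symm_apply]
    have hy := actKer_normal.conj_mem g hg h
    have hyJ : h * g * h⁻¹ ∉ J := fun hc => hgJ (by
      have := (inferInstance : J.Normal).conj_mem _ hc h⁻¹
      rwa [inv_inv, show h⁻¹ * (h * g * h⁻¹) * h = g by group] at this)
    have hinv : ∀ y u w : H, y * u * y⁻¹ = w → y⁻¹ * w * y⁻¹⁻¹ = u :=
      fun y u w e1 => by rw [← e1]; group
    have hmul : ∀ p q u : H, p * q * u * (p * q)⁻¹ = p * (q * u * q⁻¹) * p⁻¹ :=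
      fun p q u => by group
    have hsame : h * g * h⁻¹ * g⁻¹ ∈ J → x * e (QuotientGroup.mk g) * x⁻¹ = e (QuotientGroup.mk g) := by
      intro h1
      have h2 := congrArg e ((QuotientGroup.eq_one_iff (N := J ⊔ zpowers c) _).2 (mem_sup_left h1))
      simp only [QuotientGroup.mk_mul, QuotientGroup.mk_inv, map_mul, map_inv, map_one, hh'] at h2
      exact mul_inv_eq_one.1 h2
    have hopp : h * g * h⁻¹ * g ∈ J →
        x * e (QuotientGroup.mk g) * x⁻¹ = (e (QuotientGroup.mk g))⁻¹ := by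
      intro h1
      have h2 := congrArg e ((QuotientGroup.eq_one_iff (N := J ⊔ zpowers c) _).2 (mem_sup_left h1))
      simp only [QuotientGroup.mk_mul, QuotientGroup.mk_inv, map_mul, map_inv, map_one, hh'] at h2
      exact eq_inv_of_mul_eq_one_left h2
    rcases F.kernel_moves A e hcen hg hgJ with ⟨g1, g2, g3⟩ | ⟨g1, g2, g3⟩ <;>
      rcases F.kernel_moves A e hcen hy hyJ with ⟨y1, y2, y3⟩ | ⟨y1, y2, y3⟩
    · exact Or.inl (hsame (F.kernel_fix A e hcen (mul_mem hy (inv_mem hg))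
        (by rw [hmul, hinv g _ a g3, y3])))
    · exact Or.inr (hopp (F.kernel_fix A e hcen (mul_mem hy hg) (by rw [hmul, g1, y2])))
    · exact Or.inr (hopp (F.kernel_fix A e hcen (mul_mem hy hg) (by rw [hmul, g1, y3])))
    · exact Or.inl (hsame (F.kernel_fix A e hcen (mul_mem hy (inv_mem hg))
        (by rw [hmul, hinv g _ a g2, y2])))
  set f := e (QuotientGroup.mk g) with hf
  have hone : f = 1 := by
    refine hcen _ fun p => ?_
    have hle : commutator (MulAut (Cfsg.PSp 2 (ZMod 3))) ≤ centralizer {f} := by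
      rw [_root_.commutator_def, commutator_le]
      intro x _ y _
      rw [mem_centralizer_singleton_iff, commutatorElement_def, ← mul_inv_eq_iff_eq_mul]
      have hneg : ∀ u : MulAut (Cfsg.PSp 2 (ZMod 3)), ∀ w, u * f * u⁻¹ = w → u * f⁻¹ * u⁻¹ = w⁻¹ :=
        fun u w h1 => by rw [← h1]; group
      have hback : ∀ u : MulAut (Cfsg.PSp 2 (ZMod 3)), (u * f * u⁻¹ = f → u⁻¹ * f * u = f) ∧
          (u * f * u⁻¹ = f⁻¹ → u⁻¹ * f * u = f⁻¹) := fun u => by
        refine ⟨fun h1 => ?_, fun h1 => ?_⟩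
        · nth_rewrite 1 [← h1]; group
        · have h2 := hneg u _ h1
          rw [inv_inv] at h2
          nth_rewrite 1 [← h2]; group
      have hback' : ∀ u : MulAut (Cfsg.PSp 2 (ZMod 3)), (u * f * u⁻¹ = f → u⁻¹ * f⁻¹ * u = f⁻¹) ∧
          (u * f * u⁻¹ = f⁻¹ → u⁻¹ * f⁻¹ * u = f) := fun u => by
        refine ⟨fun h1 => ?_, fun h1 => ?_⟩
        · have h2 := hneg u _ h1
          nth_rewrite 1 [← h2]; group
        · nth_rewrite 1 [← h1]; group
      rw [show x * y * x⁻¹ * y⁻¹ * f * (x * y * x⁻¹ * y⁻¹)⁻¹ =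
        x * (y * (x⁻¹ * (y⁻¹ * f * y) * x) * y⁻¹) * x⁻¹ by group]
      rcases hpm x with hx | hx <;> rcases hpm y with hy | hy
      · rw [(hback y).1 hy, (hback x).1 hx, hy, hx]
      · rw [(hback y).2 hy, (hback' x).1 hx, hneg y _ hy, inv_inv, hx]
      · rw [(hback y).1 hy, (hback x).2 hx, hneg y _ hy, hneg x _ hx, inv_inv]
      · rw [(hback y).2 hy, (hback' x).2 hx, hy, hneg x _ hx, inv_inv]
    exact mem_centralizer_singleton_iff.1 (hle (hinn p))
  rw [hf, map_eq_one_iff e e.injective, QuotientGroup.eq_one_iff] at hone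
  have hJA : J ≤ actKer J := fun j hj => mem_actKer.2 fun i hi => by
    rcases F.comm j hj i hi with h | h <;> rw [h]
    · exact one_mem _
    · exact Subgroup.mem_inf.2 ⟨F.z_mem, mem_centralizer_iff.2 fun i _ => (F.z_central i).eq⟩
  obtain ⟨j, hj, e1 | e1 | e1⟩ := A.cases g hone
  · exact hgJ (e1 ▸ hj)
  · refine F.c_notMem_actKer A ?_
    rw [show c = j⁻¹ * g by rw [e1, inv_mul_cancel_left]]
    exact mul_mem (inv_mem (hJA hj)) hg
  · refine F.c_notMem_actKer A ?_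
    rw [show c = (j⁻¹ * g)⁻¹ by rw [e1, inv_mul_cancel_left, eq_inv_iff_mul_eq_one, ← mul_assoc, A.c3]]
    exact inv_mem (mul_mem (inv_mem (hJA hj)) hg)

/-- Some element fixing `a` swaps `b` and `a * b`. -/
theorem Frame.exists_swap (F : Frame J zc c a b) (A : Amb J c) [hT : (J ⊔ zpowers c).Normal]
    [hN : ((zpowers c ⊔ zpowers zc).subgroupOf (centralizer ({c} : Set H))).Normal]
    (e : (H ⧸ (J ⊔ zpowers c)) ≃* MulAut (Cfsg.PSp 2 (ZMod 3)))
    (e' : (↥(centralizer ({c} : Set H)) ⧸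
      (zpowers c ⊔ zpowers zc).subgroupOf (centralizer ({c} : Set H))) ≃* Cfsg.PSp 2 (ZMod 3))
    (hM : Nat.card (MulAut (Cfsg.PSp 2 (ZMod 3))) ≠ Nat.card (Cfsg.PSp 2 (ZMod 3))) :
    ∃ t, t * a * t⁻¹ = a ∧ t * b * t⁻¹ = a * b := by
  haveI : Fact (Nat.Prime 2) := ⟨Nat.prime_two⟩
  haveI : Fact (Nat.Prime 3) := ⟨Nat.prime_three⟩
  obtain ⟨h, j, hj, hu⟩ : ∃ h, ∃ j ∈ J, h * c * h⁻¹ = j * (c * c) := by
    by_contra hcon
    push Not at hcon
    set T := J ⊔ zpowers c with hTdef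
    have hc : orderOf c = 3 := orderOf_eq_prime (by rw [pow_succ, pow_two, A.c3])
      fun h1 => A.cJ (h1 ▸ one_mem J)
    have hcp : ∀ x ∈ zpowers c, x = 1 ∨ x = c ∨ x = c * c := by
      intro x hx
      obtain ⟨k, rfl⟩ := (isOfFinOrder_of_finite c).mem_powers_iff_mem_zpowers.2 hx
      show c ^ k = 1 ∨ c ^ k = c ∨ c ^ k = c * c
      rw [← pow_mod_orderOf, hc]
      rcases (show k % 3 = 0 ∨ k % 3 = 1 ∨ k % 3 = 2 by omega) with e | e | e <;> rw [e]
      exacts [Or.inl (pow_zero c), Or.inr (Or.inl (pow_one c)), Or.inr (Or.inr (pow_two c))]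
    let φ : ↥(centralizer ({c} : Set H)) →* MulAut (Cfsg.PSp 2 (ZMod 3)) :=
      e.toMonoidHom.comp ((QuotientGroup.mk' T).comp (centralizer ({c} : Set H)).subtype)
    have hTc : Nat.card ↥T = Nat.card ↥J * 3 := by
      rw [← hc, ← Nat.card_zpowers, ← Nat.card_prod]
      refine (Nat.card_eq_of_bijective (fun p => (⟨(p.1 : H) * p.2,
        mul_mem (mem_sup_left p.1.2) (mem_sup_right p.2.2)⟩ : ↥T)) ⟨?_, ?_⟩).symm
      · rintro ⟨p, x⟩ ⟨p', x'⟩ e1
        have e2 : (p : H) * x = p' * x' := congrArg Subtype.val e1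
        have e3 : (p' : H)⁻¹ * p = x' * (x : H)⁻¹ := by
          rw [eq_mul_inv_iff_mul_eq, mul_assoc, e2, inv_mul_cancel_left]
        have hm : (p' : H)⁻¹ * p ∈ J := J.mul_mem (J.inv_mem p'.2) p.2
        have hm' : (p' : H)⁻¹ * p ∈ zpowers c := by
          rw [e3]; exact (zpowers c).mul_mem x'.2 ((zpowers c).inv_mem x.2)
        rcases hcp _ hm' with h1 | h1 | h1
        · exact Prod.ext (Subtype.ext (inv_mul_eq_one.1 h1).symm)
            (Subtype.ext (mul_inv_eq_one.1 (e3.symm.trans h1)).symm)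
        · exact absurd (h1 ▸ hm) A.cJ
        · exact absurd (h1 ▸ hm) A.ccJ
      · rintro ⟨t, ht⟩
        obtain ⟨p, hp, x, hx, e1⟩ := mem_sup_of_normal_left.1 ht
        exact ⟨⟨⟨p, hp⟩, ⟨x, hx⟩⟩, Subtype.ext e1⟩
    have hφ : Function.Surjective φ := by
      intro y
      obtain ⟨h, hh⟩ := QuotientGroup.mk'_surjective T (e.symm y)
      have hcT : c ∈ T := mem_sup_right (mem_zpowers c)
      have hhT : h * c * h⁻¹ ∈ T := hT.conj_mem c hcT h
      obtain ⟨j, hj, hu | hu | hu⟩ := A.cases _ hhT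
      · refine absurd ?_ A.cJ
        rw [show c = h⁻¹ * (h * c * h⁻¹) * h⁻¹⁻¹ by group, hu]
        exact (inferInstance : J.Normal).conj_mem j hj h⁻¹
      swap
      · exact absurd hu (hcon h j hj)
      have hord : orderOf (h * c * h⁻¹) = 3 := by
        rw [show h * c * h⁻¹ = MulAut.conj h c from rfl, MulEquiv.orderOf_eq, hc]
      have hsyl : ∀ y : ↥T, orderOf y = 3 → Nat.card ↥(zpowers y) =
          3 ^ (Nat.card ↥T).factorization 3 := fun y hy => by
        obtain ⟨k, hk⟩ := IsPGroup.iff_card.1 A.two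
        rw [Nat.card_zpowers, hy, hTc, hk, Nat.factorization_mul (by positivity) (by norm_num)]
        simp [Nat.Prime.factorization Nat.prime_two, Nat.Prime.factorization Nat.prime_three]
      let P₁ : Sylow 3 ↥T := Sylow.ofCard (zpowers ⟨c, hcT⟩) (hsyl _ (by rw [orderOf_mk, hc]))
      let P₂ : Sylow 3 ↥T := Sylow.ofCard (zpowers ⟨_, hhT⟩) (hsyl _ (by rw [orderOf_mk, hord]))
      obtain ⟨t, ht⟩ := MulAction.exists_smul_eq ↥T P₁ P₂
      have ht2 : (⟨_, hhT⟩ : ↥T) ∈ (P₁ : Subgroup ↥T).map (MulAut.conj t).toMonoidHom := by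
        have h1 : ((t • P₁ : Sylow 3 ↥T) : Subgroup ↥T) = (P₂ : Subgroup ↥T) := by rw [ht]
        rw [Sylow.coe_subgroup_smul] at h1
        have hmem : (⟨_, hhT⟩ : ↥T) ∈ (P₂ : Subgroup ↥T) := mem_zpowers _
        rw [← h1] at hmem
        exact hmem
      obtain ⟨x, hx, hxe⟩ := ht2
      have hxe' : (t : H) * x * (t : H)⁻¹ = h * c * h⁻¹ := congrArg Subtype.val hxe
      have hxc : (x : H) ∈ zpowers c := by
        obtain ⟨k, hk⟩ := mem_zpowers_iff.1 (show x ∈ zpowers (⟨c, hcT⟩ : ↥T) from hx)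
        exact ⟨k, by rw [← hk]; rfl⟩
      obtain ⟨i, hi, y', hy', et⟩ := mem_sup_of_normal_left.1 (show (t : H) ∈ J ⊔ zpowers c from t.2)
      have hyx : y' * x * y'⁻¹ = x := by
        obtain ⟨k, rfl⟩ := mem_zpowers_iff.1 hy'
        obtain ⟨l, hl⟩ := mem_zpowers_iff.1 hxc
        rw [← hl]; group
      have hxc' : (x : H) = c := by
        have e4 : i * (x : H) * i⁻¹ = j * c := by
          rw [← hu, ← hxe', ← et,
            show i * y' * x * (i * y')⁻¹ = i * (y' * x * y'⁻¹) * i⁻¹ by group, hyx]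
        have hxJ : (x : H) * c⁻¹ ∈ J := by
          have e5 : (x : H) * c⁻¹ = i⁻¹ * j * (c * i * c⁻¹) := by
            rw [show (x : H) = i⁻¹ * (i * x * i⁻¹) * i by group, e4]; group
          rw [e5]
          exact mul_mem (mul_mem (inv_mem hi) hj) ((inferInstance : J.Normal).conj_mem i hi c)
        rcases hcp _ hxc with h1 | h1 | h1
        · rw [h1, one_mul] at hxJ
          exact absurd (inv_mem_iff.1 hxJ) A.cJ
        · exact h1
        · rw [h1, mul_inv_cancel_right] at hxJ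
          exact absurd hxJ A.cJ
      rw [hxc'] at hxe'
      refine ⟨⟨(t : H)⁻¹ * h, mem_centralizer_singleton_iff.2 ?_⟩, ?_⟩
      · calc (t : H)⁻¹ * h * c = (t : H)⁻¹ * (h * c * h⁻¹) * h := by group
          _ = c * ((t : H)⁻¹ * h) := by rw [← hxe']; group
      · show e (QuotientGroup.mk' T ((t : H)⁻¹ * h)) = y
        rw [map_mul, map_inv, show QuotientGroup.mk' T (t : H) = 1 from
          (QuotientGroup.eq_one_iff _).2 t.2, inv_one, one_mul, hh, MulEquiv.apply_symm_apply]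
    have hker : φ.ker = (zpowers c ⊔ zpowers zc).subgroupOf (centralizer ({c} : Set H)) := by
      ext x
      rw [MonoidHom.mem_ker, mem_subgroupOf]
      show e (QuotientGroup.mk' T (x : H)) = 1 ↔ _
      rw [map_eq_one_iff e e.injective, QuotientGroup.mk'_apply, QuotientGroup.eq_one_iff]
      constructor
      · intro hx
        obtain ⟨p, hp, y, hy, e1⟩ := mem_sup_of_normal_left.1 (show (x : H) ∈ J ⊔ zpowers c from hx)
        have hxc : Commute (x : H) c := mem_centralizer_singleton_iff.1 x.2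
        have hyc : Commute y c := by
          obtain ⟨k, rfl⟩ := mem_zpowers_iff.1 hy
          exact (Commute.refl c).zpow_left k
        have hpc : Commute p c := by
          have := hxc.mul_left hyc.inv_left
          rwa [← e1, mul_inv_cancel_right] at this
        rw [← e1]
        refine mul_mem ?_ (mem_sup_left hy)
        rcases F.fix p hp hpc with rfl | rfl
        exacts [one_mem _, mem_sup_right (mem_zpowers _)]
      · intro hx
        exact sup_le (le_sup_right : zpowers c ≤ J ⊔ zpowers c)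
          (zpowers_le.2 (mem_sup_left F.z_mem)) hx
    exact hM (Nat.card_congr ((QuotientGroup.quotientKerEquivOfSurjective φ hφ).symm.trans
      ((QuotientGroup.quotientMulEquivOfEq hker).trans e')).toEquiv)
  obtain ⟨y, hy, hya⟩ := F.to_stab A h
  refine ⟨y * h, hya, ?_⟩
  have hyc : y * c * y⁻¹ = c := by
    obtain ⟨k, rfl⟩ := mem_zpowers_iff.1 hy
    group
  have hyj : y * j * y⁻¹ ∈ J := (inferInstance : J.Normal).conj_mem j hj y
  have e1 : y * h * c * (y * h)⁻¹ = y * j * y⁻¹ * (c * c) := by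
    rw [show y * h * c * (y * h)⁻¹ = y * (h * c * h⁻¹) * y⁻¹ by group, hu,
      show y * (j * (c * c)) * y⁻¹ = y * j * y⁻¹ * ((y * c * y⁻¹) * (y * c * y⁻¹)) by group, hyc]
  rw [← F.ca, show y * h * (c * a * c⁻¹) * (y * h)⁻¹ =
      y * h * c * (y * h)⁻¹ * (y * h * a * (y * h)⁻¹) * (y * h * c * (y * h)⁻¹)⁻¹ by group,
    hya, e1, (F.act_c hyj (Or.inl rfl)).2, F.ca, F.cb]

end Cfsg.Agent.Fi23Two.Setup
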