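import Cfsg.Agent.Fi23Two.Setup.Centre

/-!
# The action on the four-group and on `J` modulo its centre
-/

set_option autoImplicit false
set_option linter.unusedSectionVars false

open Cfsg Subgroup
open scoped commutatorElement

namespace Cfsg.Agent.Fi23Two.Setup

variable {H : Type*} [Group H] [Finite H]

/-- The facts about `J` and `c`. -/
structure Amb (J : Subgroup H) (c : H) : Prop where
  max : ∀ N : Subgroup H, N.Normal → IsPGroup 2 ↥N → N ≤ J
  two : IsPGroup 2 ↥J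
  self : centralizer (J : Set H) ≤ J
  c3 : c * c * c = 1
  cJ : c ∉ J
  cases : ∀ t ∈ J ⊔ zpowers c, ∃ j ∈ J, t = j ∨ t = j * c ∨ t = j * (c * c)

variable {J : Subgroup H} [J.Normal] {zc c a b : H}

theorem Amb.ccJ (A : Amb J c) : c * c ∉ J := fun h => A.cJ (by
  have e : (c * c)⁻¹ = c := inv_eq_of_mul_eq_one_right A.c3
  exact e ▸ inv_mem h)

theorem Frame.act (F : Frame J zc c a b) {j w : H} (hj : j ∈ J)
    (hw : ∀ i ∈ J, Commute w i) : j * w * j⁻¹ = w := by
  rw [← (hw j hj).eq, mul_inv_cancel_right]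

theorem Frame.conj_c (F : Frame J zc c a b) {w : H} (hw : W3 a b w) : W3 a b (c * w * c⁻¹) := by
  rcases hw with rfl | rfl | rfl
  exacts [Or.inr (Or.inl F.ca), Or.inr (Or.inr F.cb), Or.inl F.cab]

theorem Frame.act_c (F : Frame J zc c a b) {j w : H} (hj : j ∈ J) (hw : W3 a b w) :
    j * c * w * (j * c)⁻¹ = c * w * c⁻¹ ∧
      j * (c * c) * w * (j * (c * c))⁻¹ = c * (c * w * c⁻¹) * c⁻¹ := by
  constructor
  · rw [show j * c * w * (j * c)⁻¹ = j * (c * w * c⁻¹) * j⁻¹ by group,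
      F.act hj (F.mem _ (F.conj_c hw)).2.1]
  · rw [show j * (c * c) * w * (j * (c * c))⁻¹ = j * (c * (c * w * c⁻¹) * c⁻¹) * j⁻¹ by group,
      F.act hj (F.mem _ (F.conj_c (F.conj_c hw))).2.1]

theorem Frame.sqW (F : Frame J zc c a b) : a * a = 1 ∧ b * b = 1 :=
  ⟨(F.mem a (Or.inl rfl)).2.2.1, (F.mem b (Or.inr (Or.inl rfl))).2.2.1⟩

/-- The product of the orbit of `c` is trivial on the four-group. -/
theorem Frame.orbit (F : Frame J zc c a b) {w : H} (hw : w = 1 ∨ W3 a b w) :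
    w * (c * w * c⁻¹) * (c * (c * w * c⁻¹) * c⁻¹) = 1 ∧
      w * (c * (c * w * c⁻¹) * c⁻¹) * (c * w * c⁻¹) = 1 := by
  obtain ⟨ha, hb⟩ := F.sqW
  have e6 : a * b * (a * b) = 1 := by rw [F.ab.symm.mul_mul_mul_comm, ha, hb, one_mul]
  rcases hw with rfl | rfl | rfl | rfl
  · simp
  · rw [F.ca, F.cb]
    exact ⟨e6, by rw [← mul_assoc w w b, ha, one_mul, hb]⟩
  · rw [F.cb, F.cab, ← F.ab.eq]
    refine ⟨?_, e6⟩
    rw [← mul_assoc w a w, ← F.ab.eq, mul_assoc a w w, hb, mul_one, ha]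
  · rw [F.cab, F.ca]
    exact ⟨by rw [mul_assoc (a * b)]; exact e6, by rw [mul_assoc a b b, hb, mul_one, ha]⟩

theorem Frame.perm (F : Frame J zc c a b) (A : Amb J c) [hT : (J ⊔ zpowers c).Normal] (h : H)
    {w : H} (hw : W3 a b w) : W3 a b (h * w * h⁻¹) := by
  obtain ⟨hwJ, hwc, -, hw1, -⟩ := F.mem w hw
  set x := h * w * h⁻¹ with hx
  have hxJ : x ∈ J := (inferInstance : J.Normal).conj_mem w hwJ h
  have hxc : ∀ j ∈ J, Commute x j := fun j hj => by
    have := (Commute.conj_iff h).2 (hwc _ ((inferInstance : J.Normal).conj_mem j hj h⁻¹))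
    rwa [inv_inv, show h * (h⁻¹ * j * h) * h⁻¹ = j by group] at this
  obtain ⟨j, hj, hu⟩ := A.cases _ (hT.conj_mem c (mem_sup_right (mem_zpowers c)) h⁻¹)
  rw [inv_inv] at hu
  rcases hu with hu | hu
  · refine absurd ?_ A.cJ
    rw [show c = h * (h⁻¹ * c * h) * h⁻¹ by group, hu]
    exact (inferInstance : J.Normal).conj_mem j hj h
  have hprod : x * (c * x * c⁻¹) * (c * (c * x * c⁻¹) * c⁻¹) = 1 := by
    rw [show x * (c * x * c⁻¹) * (c * (c * x * c⁻¹) * c⁻¹) =
      h * (w * (h⁻¹ * c * h * w * (h⁻¹ * c * h)⁻¹) *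
        (h⁻¹ * c * h * (h⁻¹ * c * h * w * (h⁻¹ * c * h)⁻¹) * (h⁻¹ * c * h)⁻¹)) * h⁻¹ by
      rw [hx]; group, conj_eq_one_iff]
    rcases hu with hu | hu <;> rw [hu]
    · rw [(F.act_c hj hw).1, (F.act_c hj (F.conj_c hw)).1]
      exact (F.orbit (Or.inr hw)).1
    · rw [(F.act_c hj hw).2, (F.act_c hj (F.conj_c (F.conj_c hw))).2]
      have hcyc : c * (c * (c * (c * w * c⁻¹) * c⁻¹) * c⁻¹) * c⁻¹ = c * w * c⁻¹ := by
        rw [show c * (c * (c * (c * w * c⁻¹) * c⁻¹) * c⁻¹) * c⁻¹ =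
          c * c * c * (c * w * c⁻¹) * (c * c * c)⁻¹ by group, A.c3, inv_one, one_mul, mul_one]
      rw [hcyc]
      exact (F.orbit (Or.inr hw)).2
  obtain ⟨u, hu', e⟩ := F.centre x hxJ hxc
  rcases e with e | e
  · rcases hu' with rfl | h'
    · exact absurd (conj_eq_one_iff.1 e) hw1
    · exact e ▸ h'
  · exfalso
    rw [e] at hprod
    have key : ∀ y, c * (y * zc) * c⁻¹ = c * y * c⁻¹ * zc := fun y => by
      rw [← mul_assoc, mul_assoc (c * y) zc c⁻¹, ← (F.z_central c⁻¹).eq, ← mul_assoc]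
    have h8 := (F.orbit hu').1
    rw [key, key] at hprod
    generalize c * (c * u * c⁻¹) * c⁻¹ = q at hprod h8
    generalize c * u * c⁻¹ = p at hprod h8
    rw [(F.z_central p).symm.mul_mul_mul_comm, F.zz, mul_one, ← mul_assoc, h8, one_mul] at hprod
    exact F.z1 hprod

/-- The elements acting trivially on `J` modulo its centre. -/
def actKer (J : Subgroup H) [J.Normal] : Subgroup H :=
  (centralizer ((J.map (QuotientGroup.mk' (J ⊓ centralizer (J : Set H)))) : Set _)).comap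
    (QuotientGroup.mk' (J ⊓ centralizer (J : Set H)))

instance actKer_normal : (actKer J).Normal := by
  haveI : (J.map (QuotientGroup.mk' (J ⊓ centralizer (J : Set H)))).Normal :=
    (inferInstance : J.Normal).map _ (QuotientGroup.mk'_surjective _)
  unfold actKer
  infer_instance

theorem mem_actKer {g : H} : g ∈ actKer J ↔
    ∀ j ∈ J, g * j * g⁻¹ * j⁻¹ ∈ J ⊓ centralizer (J : Set H) := by
  rw [actKer, mem_comap, mem_centralizer_iff]
  constructor
  · intro h j hj
    rw [← QuotientGroup.eq_one_iff]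
    simp only [QuotientGroup.mk_mul, QuotientGroup.mk_inv]
    have h1 := h _ ⟨j, hj, rfl⟩
    simp only [QuotientGroup.mk'_apply] at h1
    rw [← h1, mul_inv_cancel_right, mul_inv_cancel]
  · rintro h _ ⟨j, hj, rfl⟩
    have h' := h j hj
    rw [← QuotientGroup.eq_one_iff] at h'
    simp only [QuotientGroup.mk_mul, QuotientGroup.mk_inv] at h'
    simp only [QuotientGroup.mk'_apply]
    exact (mul_inv_eq_iff_eq_mul.1 (mul_inv_eq_one.1 h')).symm

theorem Frame.centre_comm (F : Frame J zc c a b) {g w : H}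
    (hga : g * a * g⁻¹ = a) (hgb : g * b * g⁻¹ = b) (hw : w ∈ J ⊓ centralizer (J : Set H)) :
    Commute g w := by
  obtain ⟨u, hu, e⟩ := F.centre w hw.1 fun j hj => (mem_centralizer_iff.1 hw.2 j hj).symm
  have ha : Commute g a := mul_inv_eq_iff_eq_mul.1 hga
  have hb : Commute g b := mul_inv_eq_iff_eq_mul.1 hgb
  have hgu : Commute g u := by
    rcases hu with rfl | rfl | rfl | rfl
    exacts [Commute.one_right _, ha, hb, ha.mul_right hb]
  rcases e with rfl | rfl
  exacts [hgu, hgu.mul_right (F.z_central g)]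

theorem Frame.sqC (F : Frame J zc c a b) {w : H} (hw : w ∈ J ⊓ centralizer (J : Set H)) :
    w * w = 1 := by
  obtain ⟨u, hu, e⟩ := F.centre w hw.1 fun j hj => (mem_centralizer_iff.1 hw.2 j hj).symm
  have hu2 : u * u = 1 := by
    rcases hu with rfl | hu
    exacts [one_mul 1, (F.mem u hu).2.2.1]
  rcases e with rfl | rfl
  exacts [hu2, by rw [(F.z_central u).symm.mul_mul_mul_comm, hu2, F.zz, one_mul]]

/-- An element of the kernel fixing the four-group lies in `J`. -/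
theorem Frame.kernel_le (F : Frame J zc c a b) (A : Amb J c) [(J ⊔ zpowers c).Normal] {g : H}
    (hg : g ∈ actKer J) (hga : g * a * g⁻¹ = a) (hgb : g * b * g⁻¹ = b) : g ∈ J := by
  let N : Subgroup H := actKer J ⊓ centralizer ((J ⊓ centralizer (J : Set H) : Subgroup H) : Set H)
  refine A.max N inferInstance (fun y => ?_) (Subgroup.mem_inf.2 ⟨hg, mem_centralizer_iff.2
    fun w hw => (F.centre_comm hga hgb hw).symm.eq⟩)
  obtain ⟨k, m, hm, hm'⟩ := Nat.exists_eq_two_pow_mul_odd (orderOf_pos y).ne'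
  refine ⟨k, ?_⟩
  have hx2 : Odd (orderOf ((y ^ 2 ^ k : ↥N) : H)) := by
    rw [Subgroup.orderOf_coe, orderOf_pow, hm']
    simpa using hm
  obtain ⟨hxA, hxZ⟩ := (y ^ 2 ^ k).2
  generalize hxdef : ((y ^ 2 ^ k : ↥N) : H) = x at hx2 hxA hxZ
  refine Subtype.ext ?_
  rw [hxdef, coe_one]
  have hxJ : x ∈ J := A.self (mem_centralizer_iff.2 fun j hj => by
    set w := x * j * x⁻¹ * j⁻¹ with hw
    have hwZ : w ∈ J ⊓ centralizer (J : Set H) := mem_actKer.1 hxA j hj
    have hxw : Commute x w := (mem_centralizer_iff.1 hxZ w hwZ).symm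
    have hpow : ∀ n : ℕ, x ^ n * j * (x ^ n)⁻¹ = w ^ n * j := by
      intro n
      induction n with
      | zero => simp
      | succ n ih =>
        rw [pow_succ', show x * x ^ n * j * (x * x ^ n)⁻¹ = x * (x ^ n * j * (x ^ n)⁻¹) * x⁻¹ by
          group, ih, ← mul_assoc, (hxw.pow_right n).eq, mul_assoc, mul_assoc, pow_succ,
          mul_assoc (w ^ n), hw]
        group
    have hw1 := hpow (orderOf x)
    rw [pow_orderOf_eq_one, one_mul, inv_one, mul_one, eq_comm, mul_eq_right] at hw1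
    obtain ⟨l, hl⟩ := hx2
    rw [hl, pow_succ, pow_mul, _root_.sq, F.sqC hwZ, one_pow, one_mul] at hw1
    exact (mul_inv_eq_iff_eq_mul.1 (mul_inv_eq_one.1 (hw.symm.trans hw1))).symm)
  obtain ⟨i, hi2⟩ := IsPGroup.iff_orderOf.1 A.two (⟨x, hxJ⟩ : ↥J)
  rw [orderOf_mk] at hi2
  rw [hi2] at hx2
  rcases Nat.eq_zero_or_pos i with rfl | hi0
  · exact orderOf_eq_one_iff.1 (by simpa using hi2)
  · exact absurd hx2 (Nat.not_odd_iff_even.2 (even_two.pow_of_ne_zero hi0.ne'))

/-- The element `c` acts nontrivially on `J` modulo the centre. -/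
theorem Frame.c_notMem_actKer (F : Frame J zc c a b) (A : Amb J c) : c ∉ actKer J := by
  intro hc
  have hall : ∀ x ∈ J, ∀ y ∈ J, x * y * x⁻¹ * y⁻¹ = 1 := by
    suffices h : ∀ x ∈ J, ∀ y ∈ J, Commute x y by
      intro x hx y hy
      rw [(h x hx y hy).eq, mul_inv_cancel_right, mul_inv_cancel]
    intro x hx y hy
    have hw := mem_actKer.1 hc x hx
    have hwc : ∀ j ∈ J, Commute (c * x * c⁻¹ * x⁻¹) j := fun j hj =>
      (mem_centralizer_iff.1 hw.2 j hj).symm
    obtain ⟨e, he, he'⟩ := F.centre _ hw.1 hwc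
    have hex : Commute e x := by
      rcases he with rfl | he
      exacts [Commute.one_left x, (F.mem e he).2.1 x hx]
    rcases he' with he' | he'
    · have hcx : c * x * c⁻¹ = e * x := by rw [← he', inv_mul_cancel_right]
      obtain ⟨f, hf, hfe⟩ : ∃ f, (f = 1 ∨ W3 a b f) ∧ e * (c * f * c⁻¹) = f := by
        have hab' := F.ab.eq
        rcases he with rfl | rfl | rfl | rfl
        · exact ⟨1, Or.inl rfl, by simp⟩
        · exact ⟨b, Or.inr (Or.inr (Or.inl rfl)), by rw [F.cb, ← mul_assoc, F.sqW.1, one_mul]⟩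
        · exact ⟨a * e, Or.inr (Or.inr (Or.inr rfl)), by rw [F.cab, F.ab.eq]⟩
        · exact ⟨a, Or.inr (Or.inl rfl), by rw [F.ca, mul_assoc, F.sqW.2, mul_one]⟩
      have hfJ : f ∈ J ∧ ∀ j ∈ J, Commute f j := by
        rcases hf with rfl | hf
        exacts [⟨one_mem _, fun j _ => Commute.one_left j⟩, ⟨(F.mem f hf).1, (F.mem f hf).2.1⟩]
      have hfix : Commute (x * f) c := by
        refine ((?_ : c * (x * f) * c⁻¹ = x * f) |> mul_inv_eq_iff_eq_mul.1).symm
        rw [show c * (x * f) * c⁻¹ = c * x * c⁻¹ * (c * f * c⁻¹) by group, hcx, hex.eq, mul_assoc,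
          hfe]
      have hx' : x = f⁻¹ ∨ x = zc * f⁻¹ := by
        rcases F.fix _ (mul_mem hx hfJ.1) hfix with h | h
        · exact Or.inl (eq_inv_of_mul_eq_one_left h)
        · exact Or.inr (by rw [← h, mul_inv_cancel_right])
      rcases hx' with rfl | rfl
      exacts [(hfJ.2 y hy).inv_left, (F.z_central y).symm.mul_left (hfJ.2 y hy).inv_left]
    · exfalso
      have hcx : c * x * c⁻¹ = e * zc * x := by rw [← he', inv_mul_cancel_right]
      have key : ∀ y, c * (y * zc) * c⁻¹ = c * y * c⁻¹ * zc := fun y => by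
        rw [← mul_assoc, mul_assoc (c * y) zc c⁻¹, ← (F.z_central c⁻¹).eq, ← mul_assoc]
      have h3 : c * (c * (c * x * c⁻¹) * c⁻¹) * c⁻¹ = x := by
        rw [show c * (c * (c * x * c⁻¹) * c⁻¹) * c⁻¹ = c * c * c * x * (c * c * c)⁻¹ by group, A.c3,
          inv_one, one_mul, mul_one]
      rw [hcx, show c * (e * zc * x) * c⁻¹ = c * (e * zc) * c⁻¹ * (c * x * c⁻¹) by group, key, hcx,
        show c * (c * e * c⁻¹ * zc * (e * zc * x)) * c⁻¹ =
          c * (c * e * c⁻¹ * zc) * c⁻¹ * (c * (e * zc) * c⁻¹) * (c * x * c⁻¹) by group, key, key,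
        hcx] at h3
      have h8 : c * (c * e * c⁻¹) * c⁻¹ * (c * e * c⁻¹) * e = 1 := by
        have h1 := (F.orbit he).1
        rcases he with rfl | he
        · simp
        · have c1 := (F.mem _ he).2.1
          have c2 := (F.mem _ (F.conj_c he)).2.1
          have m1 := (F.mem _ (F.conj_c he)).1
          have m2 := (F.mem _ (F.conj_c (F.conj_c he))).1
          rw [(c2 _ m2).symm.eq, mul_assoc, ← (c1 _ m2).eq, ← mul_assoc, ← (c1 _ m1).eq]
          exact h1
      generalize c * (c * e * c⁻¹) * c⁻¹ = q at h3 h8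
      generalize c * e * c⁻¹ = p at h3 h8
      rw [← mul_assoc, mul_eq_right, (F.z_central p).symm.mul_mul_mul_comm, F.zz, mul_one,
        ← mul_assoc, h8, one_mul] at h3
      exact F.z1 h3
  obtain ⟨x, hx, y, hy, e⟩ := F.nab
  exact F.z1 (e ▸ hall x hx y hy)

end Cfsg.Agent.Fi23Two.Setup
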