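import Cfsg.Agent.U62Rec.Mod
import Cfsg.Prelude.Def_TwoFusion
import Cfsg.Agent.LargeExtra.SingularSubgroup
import Cfsg.Agent.Core.Frattini
import Cfsg.Agent.Core.PCore

/-!
# The group `(2² × 2^{1+8})⟨c⟩`: its centre, with `c` permuting the involutions of a four-group
-/

set_option autoImplicit false
set_option linter.unusedSectionVars false

open Cfsg Subgroup
open scoped commutatorElement

namespace Cfsg.Agent.Fi23Two.Setup

variable {H : Type*} [Group H] [Finite H]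

/-- One of the three involutions. -/
def W3 (a b x : H) : Prop := x = a ∨ x = b ∨ x = a * b

/-- The four-group and the centre. -/
structure Frame (J : Subgroup H) (zc c a b : H) : Prop where
  z_mem : zc ∈ J
  z_central : ∀ x, Commute x zc
  zz : zc * zc = 1
  z1 : zc ≠ 1
  mem : ∀ w, W3 a b w → w ∈ J ∧ (∀ j ∈ J, Commute w j) ∧ w * w = 1 ∧ w ≠ 1 ∧ w ≠ zc
  ab : Commute a b
  ab_ne : b ≠ a ∧ b ≠ a * zc
  ca : c * a * c⁻¹ = b
  cb : c * b * c⁻¹ = a * b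
  cab : c * (a * b) * c⁻¹ = a
  centre : ∀ x ∈ J, (∀ j ∈ J, Commute x j) →
    ∃ w, (w = 1 ∨ W3 a b w) ∧ (x = w ∨ x = w * zc)
  comm : ∀ x ∈ J, ∀ y ∈ J, x * y * x⁻¹ * y⁻¹ = 1 ∨ x * y * x⁻¹ * y⁻¹ = zc
  sq : ∀ x ∈ J, x * x = 1 ∨ x * x = zc
  nab : ∃ x ∈ J, ∃ y ∈ J, x * y * x⁻¹ * y⁻¹ = zc
  fix : ∀ j ∈ J, Commute j c → j = 1 ∨ j = zc

/-- The frame exists. -/
theorem exists_frame (J V E : Subgroup H) [J.Normal]
    (hVE : Cfsg.IsInternalDirectProduct V E J) (hV : Nat.card ↥V = 4)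
    (hV2 : ∀ v ∈ V, v ^ 2 = 1) (hE : Cfsg.IsExtraspecial 2 ↥E) (hEc : Nat.card ↥E = 2 ^ 9)
    (zc c : H) (hzcen : ∀ x, Commute x zc) (hzc2 : zc * zc = 1) (hzc1 : zc ≠ 1) (hzJ : zc ∈ J)
    (hc3 : c * c * c = 1) (hcfix : ∀ j ∈ J, Commute j c → j = 1 ∨ j = zc) :
    ∃ a b, Frame J zc c a b ∧ Nat.card ↥J = 2048 ∧
      ∀ x ∈ E, (∀ j ∈ J, Commute x j) → x = 1 ∨ x = zc := by
  classical
  obtain ⟨hVJ, hEJ, hcVE, hi, hsup⟩ := hVE
  haveI : Fact (Nat.Prime 2) := ⟨Nat.prime_two⟩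
  -- the direct product
  have hVc : ∀ p ∈ V, ∀ p' ∈ V, Commute p p' := by
    intro p hp p' hp'
    have h1 : ∀ q ∈ V, q⁻¹ = q := fun q hq =>
      inv_eq_of_mul_eq_one_right (by rw [← _root_.sq, hV2 q hq])
    have h2 := h1 _ (mul_mem hp hp')
    rw [mul_inv_rev, h1 p hp, h1 p' hp'] at h2
    exact h2.symm
  have hVJc : ∀ p ∈ V, ∀ j ∈ J, Commute p j := by
    intro p hp
    suffices J ≤ centralizer ({p} : Set H) from fun j hj =>
      ((mem_centralizer_singleton_iff.1 (this hj)) : Commute j p).symm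
    rw [← hsup, sup_le_iff]
    exact ⟨fun p' hp' => mem_centralizer_singleton_iff.2 (hVc p' hp' p hp).eq,
      fun q hq => mem_centralizer_singleton_iff.2 (hcVE p hp q hq).symm⟩
  have hsplit : ∀ j ∈ J, ∃ p ∈ V, ∃ q ∈ E, p * q = j := by
    intro j hj
    rw [← hsup, ← SetLike.mem_coe, coe_mul_of_right_le_normalizer_left] at hj
    · exact hj
    · intro q hq
      rw [Subgroup.mem_normalizer_iff]
      intro p
      constructor
      · intro hp; rwa [← (hcVE p hp q hq), mul_inv_cancel_right]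
      · intro hp
        have h1 := hcVE _ hp q hq
        rw [inv_mul_cancel_right] at h1
        rwa [← mul_left_cancel h1] at hp
  obtain ⟨⟨hEp, hfr, hcom⟩, hcen⟩ := hE
  obtain ⟨ε, hεC, hε1, hεall⟩ : ∃ ε ∈ (center ↥E).map E.subtype, ε ≠ 1 ∧
      ∀ q ∈ (center ↥E).map E.subtype, q = 1 ∨ q = ε := by
    have h2 : Nat.card ↥((center ↥E).map E.subtype) = 2 := by
      rw [← Nat.card_congr (equivMapOfInjective _ _ E.subtype_injective).toEquiv, hcen]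
    obtain ⟨u, v, huv, he⟩ := Nat.card_eq_two_iff.1 h2
    have h1 : ∀ w : ↥((center ↥E).map E.subtype), w = u ∨ w = v := fun w => by
      have := he.ge (Set.mem_univ w); simpa using this
    rcases h1 1 with h | h
    · refine ⟨v, v.2, fun e => huv (h.symm.trans (Subtype.ext e).symm), fun q hq => ?_⟩
      rcases h1 ⟨q, hq⟩ with e | e
      · exact Or.inl (congrArg Subtype.val (e.trans h.symm))
      · exact Or.inr (congrArg Subtype.val e)
    · refine ⟨u, u.2, fun e => huv ((Subtype.ext e).trans h), fun q hq => ?_⟩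
      rcases h1 ⟨q, hq⟩ with e | e
      · exact Or.inr (congrArg Subtype.val e)
      · exact Or.inl (congrArg Subtype.val (e.trans h.symm))
  have hεE : ε ∈ E := map_subtype_le _ hεC
  have hEcomm : ∀ q ∈ E, ∀ q' ∈ E, q * q' * q⁻¹ * q'⁻¹ = 1 ∨ q * q' * q⁻¹ * q'⁻¹ = ε := by
    intro q hq q' hq'
    refine hεall _ ?_
    rw [← hcom]
    exact ⟨⁅(⟨q, hq⟩ : ↥E), ⟨q', hq'⟩⁆, commutator_mem_commutator (mem_top _) (mem_top _), rfl⟩
  have hpq : ∀ p ∈ V, ∀ q ∈ E, ∀ p' ∈ V, ∀ q' ∈ E,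
      (p * q) * (p' * q') * (p * q)⁻¹ * (p' * q')⁻¹ = q * q' * q⁻¹ * q'⁻¹ := by
    intro p hp q hq p' hp' q' hq'
    have c1 : Commute p (q * (p' * q')) :=
      (hVJc p hp q (hEJ hq)).mul_right ((hVc p hp p' hp').mul_right (hVJc p hp q' (hEJ hq')))
    have c2 : Commute p' q := hVJc p' hp' q (hEJ hq)
    have c3 : Commute p' (q * q' * q⁻¹) :=
      (c2.mul_right (hVJc p' hp' q' (hEJ hq'))).mul_right c2.inv_right
    calc (p * q) * (p' * q') * (p * q)⁻¹ * (p' * q')⁻¹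
        = p * (q * (p' * q')) * q⁻¹ * p⁻¹ * (q'⁻¹ * p'⁻¹) := by group
      _ = q * (p' * q') * (p * (q⁻¹ * p⁻¹)) * (q'⁻¹ * p'⁻¹) := by rw [c1.eq]; group
      _ = q * (p' * q') * q⁻¹ * (q'⁻¹ * p'⁻¹) := by
          rw [← mul_assoc p, (hVJc p hp q⁻¹ (inv_mem (hEJ hq))).eq, mul_inv_cancel_right]
      _ = q * p' * (q' * q⁻¹) * (q'⁻¹ * p'⁻¹) := by group
      _ = p' * (q * q' * q⁻¹) * (q'⁻¹ * p'⁻¹) := by rw [← c2.eq]; group
      _ = q * q' * q⁻¹ * (p' * (q'⁻¹ * p'⁻¹)) := by rw [c3.eq]; group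
      _ = q * q' * q⁻¹ * q'⁻¹ := by
          rw [← mul_assoc p', (hVJc p' hp' q'⁻¹ (inv_mem (hEJ hq'))).eq, mul_inv_cancel_right]
  have hJcomm : ∀ j ∈ J, ∀ j' ∈ J, j * j' * j⁻¹ * j'⁻¹ = 1 ∨ j * j' * j⁻¹ * j'⁻¹ = ε := by
    intro j hj j' hj'
    obtain ⟨p, hp, q, hq, rfl⟩ := hsplit j hj
    obtain ⟨p', hp', q', hq', rfl⟩ := hsplit j' hj'
    rw [hpq p hp q hq p' hp' q' hq']
    exact hEcomm q hq q' hq'
  obtain ⟨q₀, hq₀, q₁, hq₁, hne₀⟩ : ∃ q ∈ E, ∃ q' ∈ E, q * q' * q⁻¹ * q'⁻¹ ≠ 1 := by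
    by_contra hcon
    push Not at hcon
    have : center ↥E = ⊤ := eq_top_iff.2 fun w _ => mem_center_iff.2 fun v =>
      Subtype.ext (mul_inv_eq_iff_eq_mul.1 (mul_inv_eq_one.1 (hcon v v.2 w w.2)))
    rw [this, Subgroup.card_top, hEc] at hcen
    norm_num at hcen
  have hqe := (hEcomm q₀ hq₀ q₁ hq₁).resolve_left hne₀
  have hεz : ε = zc := by
    refine (hcfix ε (hEJ hεE) ?_).resolve_left hε1
    have h1 : c * ε * c⁻¹ = ε := by
      have h := hJcomm _ ((inferInstance : J.Normal).conj_mem q₀ (hEJ hq₀) c) _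
        ((inferInstance : J.Normal).conj_mem q₁ (hEJ hq₁) c)
      rw [show c * q₀ * c⁻¹ * (c * q₁ * c⁻¹) * (c * q₀ * c⁻¹)⁻¹ * (c * q₁ * c⁻¹)⁻¹
          = c * (q₀ * q₁ * q₀⁻¹ * q₁⁻¹) * c⁻¹ by group, hqe] at h
      rcases h with h | h
      · exact absurd (conj_eq_one_iff.1 h) hε1
      · exact h
    exact (mul_inv_eq_iff_eq_mul.1 h1).symm
  rw [hεz] at hqe hεall hEcomm hJcomm hεE
  -- the centre
  have hZall : ∀ x ∈ J, (∀ j ∈ J, Commute x j) → ∃ p ∈ V, x = p ∨ x = p * zc := by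
    intro x hx hxc
    obtain ⟨p, hp, q, hq, rfl⟩ := hsplit x hx
    refine ⟨p, hp, ?_⟩
    have hqz : q ∈ (center ↥E).map E.subtype := by
      refine ⟨⟨q, hq⟩, mem_center_iff.2 fun q' => Subtype.ext ?_, rfl⟩
      have h1 := (hVJc p hp _ (hEJ q'.2)).inv_left.mul_left (hxc _ (hEJ q'.2))
      rw [inv_mul_cancel_left] at h1
      exact h1.symm.eq
    rcases hεall q hqz with rfl | rfl
    exacts [Or.inl (mul_one p), Or.inr rfl]
  have hZsq : ∀ x ∈ J, (∀ j ∈ J, Commute x j) → x * x = 1 := by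
    intro x hx hxc
    obtain ⟨p, hp, rfl | rfl⟩ := hZall x hx hxc
    · rw [← _root_.sq]; exact hV2 _ hp
    · rw [(hzcen p).symm.mul_mul_mul_comm, hzc2, ← _root_.sq, hV2 _ hp, one_mul]
  have hcJ : ∀ x, x ∈ J ∧ (∀ j ∈ J, Commute x j) →
      c * x * c⁻¹ ∈ J ∧ ∀ j ∈ J, Commute (c * x * c⁻¹) j := fun x hx => by
    refine ⟨(inferInstance : J.Normal).conj_mem x hx.1 c, fun j hj => ?_⟩
    have := (Commute.conj_iff c).2 (hx.2 _ ((inferInstance : J.Normal).conj_mem j hj c⁻¹))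
    rwa [inv_inv, show c * (c⁻¹ * j * c) * c⁻¹ = j by group] at this
  have hθ3 : ∀ x, c * (c * (c * x * c⁻¹) * c⁻¹) * c⁻¹ = x := fun x => by
    rw [show c * (c * (c * x * c⁻¹) * c⁻¹) * c⁻¹ = c * c * c * x * (c * c * c)⁻¹ by group, hc3,
      inv_one, one_mul, mul_one]
  have hθfix : ∀ x ∈ J, c * x * c⁻¹ = x → x = 1 ∨ x = zc := fun x hx e =>
    hcfix x hx (mul_inv_eq_iff_eq_mul.1 e).symm
  have hθz : ∀ y, c * (y * zc) * c⁻¹ = c * y * c⁻¹ * zc := fun y => by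
    rw [← mul_assoc, mul_assoc (c * y) zc c⁻¹, ← (hzcen c⁻¹).eq, ← mul_assoc]
  -- the four-group
  obtain ⟨v, hv, hv1⟩ : ∃ v ∈ V, v ≠ 1 := by
    haveI : Nontrivial ↥V := Finite.one_lt_card_iff_nontrivial.1 (by omega)
    obtain ⟨⟨v, hv⟩, hv'⟩ := exists_ne (1 : ↥V)
    exact ⟨v, hv, fun e => hv' (Subtype.ext e)⟩
  have hvz : v ≠ zc := fun e => by
    have : v ∈ V ⊓ E := ⟨hv, e ▸ hεE⟩
    rw [hi, mem_bot] at this
    exact hv1 this
  have hvZ : v ∈ J ∧ ∀ j ∈ J, Commute v j := ⟨hVJ hv, hVJc v hv⟩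
  set v' := c * v * c⁻¹ with hv'def
  have hv'Z := hcJ v hvZ
  rw [← hv'def] at hv'Z
  set a := v * v' with hadef
  have haZ : a ∈ J ∧ ∀ j ∈ J, Commute a j :=
    ⟨mul_mem hvZ.1 hv'Z.1, fun j hj => (hvZ.2 j hj).mul_left (hv'Z.2 j hj)⟩
  set b := c * a * c⁻¹ with hbdef
  have hbZ := hcJ a haZ
  rw [← hbdef] at hbZ
  have hab : Commute a b := haZ.2 b hbZ.1
  have hd : c * b * c⁻¹ = a * b := by
    have h3 : b = v' * (c * v' * c⁻¹) := by rw [hbdef, hadef, hv'def]; group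
    have h2 : c * b * c⁻¹ = c * v' * c⁻¹ * v := by
      rw [h3, show c * (v' * (c * v' * c⁻¹)) * c⁻¹ = c * v' * c⁻¹ * (c * (c * v' * c⁻¹) * c⁻¹) by group]
      congr 1
      rw [hv'def]; exact hθ3 v
    rw [h2, h3, hadef, mul_assoc v, ← mul_assoc v' v', hZsq v' hv'Z.1 hv'Z.2, one_mul,
      (hvZ.2 _ (hcJ v' hv'Z).1).eq]
  have hd3 : c * (a * b) * c⁻¹ = a := by rw [← hd, hbdef]; exact hθ3 a
  have ha1 : a ≠ 1 := fun e => by
    have h1 : c * v * c⁻¹ = v := by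
      rw [← hv'def, ← (inv_eq_of_mul_eq_one_right e : v⁻¹ = v'),
        inv_eq_of_mul_eq_one_right (hZsq v hvZ.1 hvZ.2)]
    rcases hθfix v hvZ.1 h1 with h | h
    exacts [hv1 h, hvz h]
  have haz : a ≠ zc := fun e => by
    have h1 : v' = v * zc := by rw [← e, hadef, ← mul_assoc, hZsq v hvZ.1 hvZ.2, one_mul]
    have h2 : c * v' * c⁻¹ = v := by
      rw [h1, hθz, ← hv'def, h1, mul_assoc, hzc2, mul_one]
    have h3 : c * v * c⁻¹ = v := by
      conv_lhs => rw [← h2]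
      exact hθ3 v
    rw [← hv'def, h1] at h3
    exact hzc1 (mul_eq_left.1 h3)
  have hb1 : b ≠ 1 := fun e => ha1 (conj_eq_one_iff.1 e)
  have hbz : b ≠ zc := fun e => haz (by
    have h1 : c * a * c⁻¹ = c * zc * c⁻¹ := by
      rw [← hbdef, e, (hzcen c).eq, mul_inv_cancel_right]
    exact mul_left_cancel (mul_right_cancel h1))
  have hba : b ≠ a := fun e => by
    rcases hθfix a haZ.1 (hbdef.symm.trans e) with h | h
    exacts [ha1 h, haz h]
  have hab1 : a * b ≠ 1 := fun e => hb1 (by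
    rw [← conj_eq_one_iff (a := c), hd]; exact e)
  have habz : a * b ≠ zc := fun e => by
    apply haz
    rw [← hd3, e, (hzcen c).eq, mul_inv_cancel_right]
  have hbaz : b ≠ a * zc := fun e => habz (by
    rw [e, ← mul_assoc, hZsq a haZ.1 haZ.2, one_mul])
  refine ⟨a, b, ⟨hzJ, hzcen, hzc2, hzc1, ?_, hab, ⟨hba, hbaz⟩, hbdef.symm, hd, hd3, ?_, hJcomm, ?_,
    ⟨q₀, hEJ hq₀, q₁, hEJ hq₁, hqe⟩, hcfix⟩, ?_, ?_⟩
  · rintro w (rfl | rfl | rfl)
    · exact ⟨haZ.1, haZ.2, hZsq a haZ.1 haZ.2, ha1, haz⟩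
    · exact ⟨hbZ.1, hbZ.2, hZsq b hbZ.1 hbZ.2, hb1, hbz⟩
    · exact ⟨mul_mem haZ.1 hbZ.1, fun j hj => (haZ.2 j hj).mul_left (hbZ.2 j hj),
        hZsq _ (mul_mem haZ.1 hbZ.1) (fun j hj => (haZ.2 j hj).mul_left (hbZ.2 j hj)), hab1, habz⟩
  · obtain ⟨pa, hpa, ea⟩ := hZall a haZ.1 haZ.2
    obtain ⟨pb, hpb, eb⟩ := hZall b hbZ.1 hbZ.2
    have hflip : ∀ {x p : H}, (x = p ∨ x = p * zc) → (p = x ∨ p = x * zc) := by
      rintro x p (rfl | rfl)
      · exact Or.inl rfl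
      · exact Or.inr (by rw [mul_assoc, hzc2, mul_one])
    have hpa1 : pa ≠ 1 := fun e => by
      subst e
      rcases ea with h | h
      exacts [ha1 h, haz (by rwa [one_mul] at h)]
    have hpb1 : pb ≠ 1 := fun e => by
      subst e
      rcases eb with h | h
      exacts [hb1 h, hbz (by rwa [one_mul] at h)]
    have hpab : pa ≠ pb := fun e => by
      subst e
      rcases hflip ea with h | h <;> rcases eb with h' | h' <;> rw [h] at h'
      · exact hba h'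
      · exact hbaz h'
      · exact hbaz h'
      · exact hba (by rwa [mul_assoc, hzc2, mul_one] at h')
    haveI := Fintype.ofFinite ↥V
    have hA2 : (⟨pa, hpa⟩ : ↥V) * ⟨pa, hpa⟩ = 1 :=
      Subtype.ext (hZsq pa (hVJ hpa) (hVJc pa hpa))
    have hAB : (⟨pa, hpa⟩ : ↥V) ≠ ⟨pb, hpb⟩ := fun e => hpab (congrArg Subtype.val e)
    have hA1 : (⟨pa, hpa⟩ : ↥V) ≠ 1 := fun e => hpa1 (congrArg Subtype.val e)
    have hB1 : (⟨pb, hpb⟩ : ↥V) ≠ 1 := fun e => hpb1 (congrArg Subtype.val e)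
    have hABm : (⟨pa, hpa⟩ : ↥V) * ⟨pb, hpb⟩ ≠ 1 := fun e => hAB (by
      rw [← mul_one (⟨pa, hpa⟩ : ↥V), ← e, ← mul_assoc, hA2, one_mul])
    have hAm : (⟨pa, hpa⟩ : ↥V) ≠ ⟨pa, hpa⟩ * ⟨pb, hpb⟩ := fun e => hB1 (mul_eq_left.1 e.symm)
    have hBm : (⟨pb, hpb⟩ : ↥V) ≠ ⟨pa, hpa⟩ * ⟨pb, hpb⟩ := fun e => hA1 (mul_eq_right.1 e.symm)
    have huniv : ({1, ⟨pa, hpa⟩, ⟨pb, hpb⟩, ⟨pa, hpa⟩ * ⟨pb, hpb⟩} : Finset ↥V) = Finset.univ := by
      refine Finset.eq_univ_of_card _ ?_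
      rw [← Nat.card_eq_fintype_card, hV, Finset.card_insert_of_notMem (by
          simp only [Finset.mem_insert, Finset.mem_singleton, not_or]
          exact ⟨hA1.symm, hB1.symm, hABm.symm⟩),
        Finset.card_insert_of_notMem (by
          simp only [Finset.mem_insert, Finset.mem_singleton, not_or]
          exact ⟨hAB, hAm⟩),
        Finset.card_insert_of_notMem (by
          simp only [Finset.mem_singleton]
          exact hBm), Finset.card_singleton]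
    intro x hx hxc
    obtain ⟨p, hp, ex⟩ := hZall x hx hxc
    have hcase : p = 1 ∨ p = pa ∨ p = pb ∨ p = pa * pb := by
      have := huniv.ge (Finset.mem_univ (⟨p, hp⟩ : ↥V))
      simpa [Subtype.ext_iff] using this
    obtain ⟨w, hw, hpw⟩ : ∃ w, (w = 1 ∨ W3 a b w) ∧ (p = w ∨ p = w * zc) := by
      rcases hcase with rfl | rfl | rfl | rfl
      · exact ⟨1, Or.inl rfl, Or.inl rfl⟩
      · exact ⟨a, Or.inr (Or.inl rfl), hflip ea⟩
      · exact ⟨b, Or.inr (Or.inr (Or.inl rfl)), hflip eb⟩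
      · refine ⟨a * b, Or.inr (Or.inr (Or.inr rfl)), ?_⟩
        rcases hflip ea with h | h <;> rcases hflip eb with h' | h' <;> rw [h, h']
        · exact Or.inl rfl
        · exact Or.inr (mul_assoc _ _ _).symm
        · exact Or.inr (by rw [mul_assoc, ← (hzcen b).eq, ← mul_assoc])
        · exact Or.inl (by rw [(hzcen b).symm.mul_mul_mul_comm, hzc2, mul_one])
    refine ⟨w, hw, ?_⟩
    rcases hpw with rfl | rfl
    · exact ex
    · rcases ex with rfl | rfl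
      · exact Or.inr rfl
      · exact Or.inl (by rw [mul_assoc, hzc2, mul_one])
  · intro j hj
    obtain ⟨p, hp, q, hq, rfl⟩ := hsplit j hj
    have e2 : p * q * (p * q) = q * q := by
      rw [(show Commute q p from (hcVE p hp q hq).symm).mul_mul_mul_comm, ← _root_.sq p, hV2 p hp,
        one_mul]
    rw [e2]
    refine hεall (q * q) ?_
    rw [← hfr]
    exact ⟨⟨q, hq⟩ * ⟨q, hq⟩, by rw [← _root_.sq]; exact Core.pow_mem_frattini hEp _, rfl⟩
  · have e : Nat.card (↥V × ↥E) = Nat.card ↥J := by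
      refine Nat.card_eq_of_bijective
        (fun pq => (⟨pq.1 * pq.2, mul_mem (hVJ pq.1.2) (hEJ pq.2.2)⟩ : ↥J)) ⟨?_, ?_⟩
      · rintro ⟨p, q⟩ ⟨p', q'⟩ e
        have e1 : (p : H) * q = p' * q' := congrArg Subtype.val e
        have e2 : (p' : H)⁻¹ * p = q' * (q : H)⁻¹ := by
          rw [eq_mul_inv_iff_mul_eq, mul_assoc, e1, inv_mul_cancel_left]
        have h1 : (p' : H)⁻¹ * p ∈ V ⊓ E :=
          Subgroup.mem_inf.2 ⟨mul_mem (V.inv_mem p'.2) p.2, e2 ▸ mul_mem q'.2 (E.inv_mem q.2)⟩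
        rw [hi, mem_bot] at h1
        refine Prod.ext (Subtype.ext (inv_mul_eq_one.1 h1).symm) (Subtype.ext ?_)
        exact (mul_inv_eq_one.1 (e2.symm.trans h1)).symm
      · rintro ⟨j, hj⟩
        obtain ⟨p, hp, q, hq, e⟩ := hsplit j hj
        exact ⟨⟨⟨p, hp⟩, ⟨q, hq⟩⟩, Subtype.ext e⟩
    rw [← e, Nat.card_prod, hV, hEc]; norm_num
  · intro x hx hxc
    exact hεall x ⟨⟨x, hx⟩, mem_center_iff.2 fun q' => Subtype.ext (hxc _ (hEJ q'.2)).symm.eq, rfl⟩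

end Cfsg.Agent.Fi23Two.Setup
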